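import Mathlib
import Cfsg.Agent.Tits.RootComb
import Cfsg.Agent.Tits.Exchange
/-!
Levi type Curtis-Tits theorem, combinatorial part: `w α_i = α_j` decomposes into moves inside rank two
standard parabolic subgroups; a simple root and a positive root lie in a standard rank two system after a
move.
-/

set_option autoImplicit false
set_option linter.unusedSectionVars false

namespace Cfsg.Agent.CurtisTits.Comb

open CoxeterSystem Cfsg.Agent.ChevalleyStructure.CoxeterGeom Cfsg.Agent.Tits.Roots
open Cfsg.Agent.Tits.Exchange Cfsg.Agent.Tits.Core Cfsg.Agent.Tits.RootComb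

variable {I W : Type*} [Fintype I] [DecidableEq I] [Group W] {M : CoxeterMatrix I}
  (cs : CoxeterSystem M W) {A : I → I → ℤ} (h : IsCartan M A)

theorem length_lt_iff (w : W) (i : I) :
    cs.length w < cs.length (w * cs.simple i) ↔ 0 ≤ rep cs h w (sr i) := lt_iff' cs h w i

/-- A minimal coset representative maps positive roots of `W_J` to positive roots. -/
theorem rep_nonneg_of_isMinR {J : Set I} {v u : W} (hv : IsMinR cs J v) (hu : u ∈ WJ cs J) {i : I}
    (hi : i ∈ J) (h0 : 0 ≤ rep cs h u (sr i)) : 0 ≤ rep cs h (v * u) (sr i) := by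
  rw [← length_lt_iff cs h] at h0 ⊢
  have h1 := hv u hu
  have h2 := hv (u * cs.simple i) (mul_mem hu (simple_mem_WJ cs hi))
  rw [← mul_assoc] at h2
  omega

/-- If `u ∈ W_J` makes the positive root `x` negative then `x` is a root of `W_J`. -/
theorem root_of_neg {J : Set I} {ω : List I} (hω : ∀ i ∈ ω, i ∈ J) {x : I → ℤ}
    (hx : IsRoot cs h x) (h0 : 0 ≤ x) (h1 : rep cs h (cs.wordProd ω)⁻¹ x ≤ 0) :
    ∃ v ∈ WJ cs J, ∃ i ∈ J, x = rep cs h v (sr i) := by
  induction ω generalizing x with
  | nil =>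
    rw [wordProd_nil, inv_one, map_one, Module.End.one_apply] at h1
    exact absurd h1 (hx.not_pos_neg h0)
  | cons a ω ih =>
    have ha : a ∈ J := hω a (by simp)
    by_cases hxa : x = sr a
    · exact ⟨1, one_mem _, a, ha, by rw [map_one, Module.End.one_apply, hxa]⟩
    · have h2 := hx.simple_nonneg h0 a hxa
      obtain ⟨v, hv, i, hi, e⟩ := ih (fun i hi => hω i (by simp [hi])) (hx.act (cs.simple a)) h2 (by
        rw [← rep_mul_apply]
        rw [wordProd_cons, mul_inv_rev, inv_simple] at h1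
        exact h1)
      refine ⟨cs.simple a * v, mul_mem (simple_mem_WJ cs ha) hv, i, hi, ?_⟩
      rw [rep_mul_apply, ← e, ← rep_mul_apply, cs.simple_mul_simple_self, map_one,
        Module.End.one_apply]

theorem root_of_neg' {J : Set I} {u : W} (hu : u ∈ WJ cs J) {x : I → ℤ}
    (hx : IsRoot cs h x) (h0 : 0 ≤ x) (h1 : rep cs h u⁻¹ x ≤ 0) :
    ∃ v ∈ WJ cs J, ∃ i ∈ J, x = rep cs h v (sr i) := by
  obtain ⟨ω, hω, rfl⟩ := exists_word_of_mem_WJ cs hu
  exact root_of_neg cs h hω hx h0 h1

/-- Decomposition of `w` with `w α_i = α_j`, `w ≠ 1`. -/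
theorem exists_decomp {w : W} {i j : I} (hw : rep cs h w (sr i) = sr j) (h1 : w ≠ 1) :
    ∃ k, k ≠ i ∧ ∃ v u : W, u ∈ WJ cs {i, k} ∧ IsMinR cs {i, k} v ∧ w = v * u ∧
      cs.length v < cs.length w ∧ ∃ l, (l = i ∨ l = k) ∧ rep cs h u (sr i) = sr l ∧
        rep cs h v (sr l) = sr j := by
  obtain ⟨k, hk⟩ := cs.exists_rightDescent_of_ne_one h1
  have hk' : cs.length (w * cs.simple k) < cs.length w := hk
  have hki : k ≠ i := by
    rintro rfl
    have h2 : cs.length w < cs.length (w * cs.simple k) := by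
      rw [length_lt_iff cs h, hw]; exact sr_nonneg j
    omega
  obtain ⟨v, hv, u, hu, rfl⟩ := exists_isMinR cs {i, k} w
  have hik : i ∈ ({i, k} : Set I) := by simp
  have hkk : k ∈ ({i, k} : Set I) := by simp
  have hlen := hv u hu
  have hu1 : u ≠ 1 := by
    rintro rfl
    have h2 := hv (cs.simple k) (simple_mem_WJ cs hkk)
    rw [mul_one] at hk'
    omega
  have hlu : 0 < cs.length u := by
    rcases Nat.eq_zero_or_pos (cs.length u) with h2 | h2
    · exact absurd (cs.length_eq_zero_iff.1 h2) hu1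
    · exact h2
  -- `u α_i` is positive
  have hpos : 0 ≤ rep cs h u (sr i) := by
    rcases (isRoot_rt (h := h) (cs := cs) u i).pos_or_neg with h2 | h2
    · exact h2
    · exfalso
      have h3 : 0 ≤ rep cs h (u * cs.simple i) (sr i) := by
        rw [rep_mul_apply, rep_simple_sr, map_neg]
        exact neg_nonneg.2 h2
      have h4 := rep_nonneg_of_isMinR cs h hv (mul_mem hu (simple_mem_WJ cs hik)) hik h3
      rw [← mul_assoc, rep_mul_apply, rep_simple_sr, map_neg, hw] at h4
      have h5 := h4 j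
      simp [sr_self] at h5
  -- coordinates of `u α_i`
  have hsupp : ∀ l, l ≠ i → l ≠ k → rep cs h u (sr i) l = 0 := by
    intro l h2 h3
    rw [rep_apply_of_mem (cs := cs) (h := h) hu (sr i) (k := l) (by simp [h2, h3]), sr_ne h2]
  have hvi : 0 ≤ rep cs h v (sr i) := by
    have := rep_nonneg_of_isMinR cs h hv (one_mem _) hik (by
      rw [map_one, Module.End.one_apply]; exact sr_nonneg i)
    rwa [mul_one] at this
  have hvk : 0 ≤ rep cs h v (sr k) := by
    have := rep_nonneg_of_isMinR cs h hv (one_mem _) hkk (by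
      rw [map_one, Module.End.one_apply]; exact sr_nonneg k)
    rwa [mul_one] at this
  set a := rep cs h u (sr i) i with ha
  set b := rep cs h u (sr i) k with hb
  have hcomb : rep cs h u (sr i) = a • sr i + b • sr k := by
    funext l
    by_cases h2 : l = i
    · subst h2; simp [sr_self, sr_ne hki.symm, ← ha]
    · by_cases h3 : l = k
      · subst h3; simp [sr_self, sr_ne hki, ← hb]
      · simp [sr_ne h2, sr_ne h3, hsupp l h2 h3]
  have ha0 : 0 ≤ a := hpos i
  have hb0 : 0 ≤ b := hpos k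
  have hj : a • rep cs h v (sr i) + b • rep cs h v (sr k) = sr j := by
    rw [← hw, rep_mul_apply, hcomb, map_add, map_smul, map_smul]
  have key : a = 0 ∨ b = 0 := by
    by_contra hcon
    push Not at hcon
    have ha1 : 0 < a := lt_of_le_of_ne ha0 (Ne.symm hcon.1)
    have hb1 : 0 < b := lt_of_le_of_ne hb0 (Ne.symm hcon.2)
    have hz : ∀ l, l ≠ j → rep cs h v (sr i) l = 0 ∧ rep cs h v (sr k) l = 0 := by
      intro l hl
      have e := congrFun hj l
      simp only [Pi.add_apply, Pi.smul_apply, smul_eq_mul, sr_ne hl] at e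
      have e1 : 0 ≤ rep cs h v (sr i) l := hvi l
      have e2 : 0 ≤ rep cs h v (sr k) l := hvk l
      have e3 : 0 ≤ a * rep cs h v (sr i) l := mul_nonneg ha0 e1
      have e4 : 0 ≤ b * rep cs h v (sr k) l := mul_nonneg hb0 e2
      have e5 : a * rep cs h v (sr i) l = 0 := by linarith
      have e6 : b * rep cs h v (sr k) l = 0 := by linarith
      exact ⟨(mul_eq_zero.1 e5).resolve_left ha1.ne', (mul_eq_zero.1 e6).resolve_left hb1.ne'⟩
    have e1 := (isRoot_rt (h := h) (cs := cs) v i).eq_sr hvi j fun l hl => (hz l hl).1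
    have e2 := (isRoot_rt (h := h) (cs := cs) v k).eq_sr hvk j fun l hl => (hz l hl).2
    have e3 : sr i = sr k := rep_injective_apply cs h v (e1.trans e2.symm)
    have e4 := congrFun e3 i
    rw [sr_self, sr_ne hki.symm] at e4
    exact one_ne_zero e4
  refine ⟨k, hki, v, u, hu, hv, rfl, by omega, ?_⟩
  have hroot : IsRoot cs h (rep cs h u (sr i)) := isRoot_rt (h := h) (cs := cs) u i
  rcases key with h2 | h2
  · refine ⟨k, Or.inr rfl, ?_, ?_⟩
    · exact hroot.eq_sr hpos k fun l hl => by
        rw [hcomb, h2]; simp [sr_ne hl]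
    · have e1 := hroot.eq_sr hpos k fun l hl => by
        rw [hcomb, h2]; simp [sr_ne hl]
      rw [← e1, ← rep_mul_apply, hw]
  · refine ⟨i, Or.inl rfl, ?_, ?_⟩
    · exact hroot.eq_sr hpos i fun l hl => by
        rw [hcomb, h2]; simp [sr_ne hl]
    · have e1 := hroot.eq_sr hpos i fun l hl => by
        rw [hcomb, h2]; simp [sr_ne hl]
      rw [← e1, ← rep_mul_apply, hw]

/-- Induction principle for the elements with `w α_i = α_j`. -/
theorem moves_induction (P : W → I → I → Prop) (h1 : ∀ i, P 1 i i)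
    (h2 : ∀ v l j u i k, k ≠ i → u ∈ WJ cs {i, k} → (l = i ∨ l = k) → rep cs h u (sr i) = sr l →
      rep cs h v (sr l) = sr j → P v l j → P (v * u) i j) :
    ∀ w i j, rep cs h w (sr i) = sr j → P w i j := by
  intro w
  induction hn : cs.length w using Nat.strong_induction_on generalizing w with
  | _ n ih =>
    intro i j hw
    by_cases hw1 : w = 1
    · subst hw1
      rw [map_one, Module.End.one_apply] at hw
      have : i = j := by
        by_contra hij
        have e := congrFun hw i
        rw [sr_self, sr_ne hij] at e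
        exact one_ne_zero e
      subst this
      exact h1 i
    · obtain ⟨k, hk, v, u, hu, -, rfl, hlt, l, hl, h3, h4⟩ := exists_decomp cs h hw hw1
      exact h2 v l j u i k hk hu hl h3 h4 (ih _ (by omega) v rfl l j h4)

/-- A root made negative by a move lies in a standard rank two system. -/
theorem exists_plane_of_neg : ∀ (w : W) (i j : I), rep cs h w (sr i) = sr j → ∀ x : I → ℤ,
    IsRoot cs h x → 0 ≤ x → rep cs h w⁻¹ x ≤ 0 →
    ∃ y : W, ∃ l k : I, k ≠ l ∧ rep cs h y (sr l) = sr j ∧ ∃ v ∈ WJ cs {l, k},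
      ∃ m, (m = l ∨ m = k) ∧ x = rep cs h (y * v) (sr m) ∧ 0 ≤ rep cs h v (sr m) := by
  refine moves_induction cs h (fun w i j => ∀ x : I → ℤ,
    IsRoot cs h x → 0 ≤ x → rep cs h w⁻¹ x ≤ 0 →
    ∃ y : W, ∃ l k : I, k ≠ l ∧ rep cs h y (sr l) = sr j ∧ ∃ v ∈ WJ cs {l, k},
      ∃ m, (m = l ∨ m = k) ∧ x = rep cs h (y * v) (sr m) ∧ 0 ≤ rep cs h v (sr m)) ?_ ?_
  · intro i x hx h0 h1
    rw [inv_one, map_one, Module.End.one_apply] at h1
    exact absurd h1 (hx.not_pos_neg h0)
  · intro v l j u i k hk hu hl h3 h4 ih x hx h0 h1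
    rcases (hx.act v⁻¹).pos_or_neg with h5 | h5
    · rw [mul_inv_rev, rep_mul_apply] at h1
      obtain ⟨v', hv', m, hm, e⟩ := root_of_neg' cs h hu (hx.act v⁻¹) h5 h1
      have hm' : m = i ∨ m = k := by simpa using hm
      rcases hl with rfl | rfl
      · refine ⟨v, l, k, hk, h4, v', hv', m, hm', ?_, by rw [← e]; exact h5⟩
        rw [rep_mul_apply, ← e, rep_apply_inv]
      · refine ⟨v, l, i, hk.symm, h4, v', by rwa [Set.pair_comm], m, hm'.symm, ?_,
          by rw [← e]; exact h5⟩
        rw [rep_mul_apply, ← e, rep_apply_inv]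
    · exact ih x hx h0 h5

variable [Finite W]

/-- `w₀` maps positive roots to negative roots. -/
theorem w0_neg {x : I → ℤ} (h0 : 0 ≤ x) : rep cs h (w0 cs) x ≤ 0 := by
  have key : ∀ i, rep cs h (w0 cs) (sr i) ≤ 0 := by
    intro i
    rcases (isRoot_rt (h := h) (cs := cs) (w0 cs) i).pos_or_neg with h1 | h1
    · rw [← length_lt_iff cs h] at h1
      have := length_le_w0 cs (w0 cs * cs.simple i)
      omega
    · exact h1
  have e : x = ∑ i, x i • sr i := by
    funext k
    rw [Finset.sum_apply, Finset.sum_eq_single k]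
    · simp [sr_self]
    · intro b _ hb
      simp [sr_ne hb.symm]
    · simp
  rw [e, map_sum]
  refine Finset.sum_nonpos fun i _ => ?_
  rw [map_smul]
  have h2 := h0 i
  exact smul_nonpos_of_nonneg_of_nonpos h2 (key i)

/-- **Planes.** A simple root `α_j` and a positive root `x ≠ α_j` lie in a standard rank two system
after a move. -/
theorem exists_plane (j : I) {x : I → ℤ} (hx : IsRoot cs h x) (h0 : 0 ≤ x) (hxj : x ≠ sr j) :
    ∃ y : W, ∃ l k : I, k ≠ l ∧ rep cs h y (sr l) = sr j ∧ ∃ v ∈ WJ cs {l, k},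
      ∃ m, (m = l ∨ m = k) ∧ x = rep cs h (y * v) (sr m) ∧ 0 ≤ rep cs h v (sr m) := by
  obtain ⟨i, hi⟩ := exists_op cs j
  have e1 : rep cs h (w0 cs * cs.simple i) (sr i) = sr j := by
    have h1 : 0 ≤ rep cs h (w0 cs * cs.simple i) (sr i) := by
      rw [rep_mul_apply, rep_simple_sr, map_neg]
      exact neg_nonneg.2 (w0_neg cs h (sr_nonneg i))
    have h2 : rep cs h (cs.simple j) (rep cs h (w0 cs * cs.simple i) (sr i)) ≤ 0 := by
      rw [← rep_mul_apply]
      have : cs.simple j * (w0 cs * cs.simple i) = w0 cs := by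
        have e := w0_mul_self cs
        rw [hi]
        calc cs.simple j * (w0 cs * (w0 cs * cs.simple j * w0 cs))
            = cs.simple j * ((w0 cs * w0 cs) * cs.simple j * w0 cs) := by simp only [mul_assoc]
          _ = w0 cs := by rw [e, one_mul, ← mul_assoc, cs.simple_mul_simple_self, one_mul]
      rw [this]
      exact w0_neg cs h (sr_nonneg i)
    by_contra hne
    have h3 := (isRoot_rt (h := h) (cs := cs) (w0 cs * cs.simple i) i).simple_nonneg h1 j hne
    exact ((isRoot_rt (h := h) (cs := cs) (w0 cs * cs.simple i) i).act (cs.simple j)).not_pos_neg h3 h2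
  refine exists_plane_of_neg cs h _ i j e1 x hx h0 ?_
  rw [mul_inv_rev, inv_simple, w0_inv, rep_mul_apply]
  have h4 : rep cs h (w0 cs) x ≤ 0 := w0_neg cs h h0
  by_contra hcon
  have h5 : 0 ≤ rep cs h (cs.simple i) (rep cs h (w0 cs) x) :=
    ((hx.act (w0 cs)).act (cs.simple i)).pos_or_neg.resolve_right hcon
  have h6 : 0 ≤ -rep cs h (w0 cs) x := neg_nonneg.2 h4
  have h7 : -rep cs h (w0 cs) x = sr i := by
    by_contra hne
    have := (hx.act (w0 cs)).neg.simple_nonneg h6 i hne
    rw [map_neg] at this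
    exact ((hx.act (w0 cs)).act (cs.simple i)).not_pos_neg h5 (neg_nonneg.1 this)
  apply hxj
  have h8 : rep cs h (w0 cs) (-x) = sr i := by rw [map_neg, h7]
  have h9 : rep cs h (w0 cs) (rep cs h (w0 cs) (-x)) = -x := by
    rw [← rep_mul_apply, w0_mul_self, map_one, Module.End.one_apply]
  rw [h8] at h9
  have h10 : rep cs h (w0 cs * cs.simple i) (sr i) = x := by
    rw [rep_mul_apply, rep_simple_sr, map_neg, h9, neg_neg]
  rw [← h10, e1]

end Cfsg.Agent.CurtisTits.Comb
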