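import Mathlib
import Cfsg.Agent.CurtisTits.Comb
/-!
Levi type Curtis-Tits theorem: lifting the Weyl group modulo the torus, root groups.

`Pre cs n H` : the elements `n i` normalise `H` and satisfy the Coxeter relations modulo `H`.
`Lf hn w` : the coset of `H` above `w`.
-/

set_option autoImplicit false
set_option linter.unusedSectionVars false

namespace Cfsg.Agent.CurtisTits

open CoxeterSystem Cfsg.Agent.ChevalleyStructure.CoxeterGeom Cfsg.Agent.Tits.Roots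
open Cfsg.Agent.Tits.Exchange Cfsg.Agent.Tits.Core Cfsg.Agent.Tits.RootComb Comb
open scoped commutatorElement

section Conj

variable {Γ : Type*} [Group Γ]

/-- The conjugate `g Q g⁻¹`. -/
def cj (g : Γ) (Q : Subgroup Γ) : Subgroup Γ := Q.map (MulAut.conj g).toMonoidHom

theorem mem_cj {g x : Γ} {Q : Subgroup Γ} : x ∈ cj g Q ↔ g⁻¹ * x * g ∈ Q := by
  constructor
  · rintro ⟨y, hy, rfl⟩
    have : g⁻¹ * (g * y * g⁻¹) * g = y := by group
    change g⁻¹ * (g * y * g⁻¹) * g ∈ Q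
    rw [this]; exact hy
  · intro hx
    exact ⟨_, hx, by change g * (g⁻¹ * x * g) * g⁻¹ = x; group⟩

theorem conj_mem_cj {g x : Γ} {Q : Subgroup Γ} : g * x * g⁻¹ ∈ cj g Q ↔ x ∈ Q := by
  rw [mem_cj]
  have : g⁻¹ * (g * x * g⁻¹) * g = x := by group
  rw [this]

theorem cj_mul (g g' : Γ) (Q : Subgroup Γ) : cj (g * g') Q = cj g (cj g' Q) := by
  ext x
  rw [mem_cj, mem_cj, mem_cj]
  have : (g * g')⁻¹ * x * (g * g') = g'⁻¹ * (g⁻¹ * x * g) * g' := by group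
  rw [this]

theorem cj_one (Q : Subgroup Γ) : cj 1 Q = Q := by
  ext x; rw [mem_cj]; simp

theorem cj_inv_cj (g : Γ) (Q : Subgroup Γ) : cj g⁻¹ (cj g Q) = Q := by
  rw [← cj_mul, inv_mul_cancel, cj_one]

theorem cj_mono (g : Γ) {Q R : Subgroup Γ} (h : Q ≤ R) : cj g Q ≤ cj g R := Subgroup.map_mono h

theorem cj_closure (g : Γ) (S : Set Γ) :
    cj g (Subgroup.closure S) = Subgroup.closure ((fun x => g * x * g⁻¹) '' S) := by
  rw [cj, MonoidHom.map_closure]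
  rfl

theorem cj_iSup {ι : Sort*} (g : Γ) (Q : ι → Subgroup Γ) : cj g (⨆ i, Q i) = ⨆ i, cj g (Q i) :=
  Subgroup.map_iSup _ _

theorem cj_sup (g : Γ) (Q R : Subgroup Γ) : cj g (Q ⊔ R) = cj g Q ⊔ cj g R := Subgroup.map_sup _ _ _

theorem cj_commutator (g : Γ) (x y : Γ) : g * ⁅x, y⁆ * g⁻¹ = ⁅g * x * g⁻¹, g * y * g⁻¹⁆ := by
  simp only [commutatorElement_def]
  group

end Conj

variable {I W : Type*} [Group W] {M : CoxeterMatrix I} {Γ : Type*} [Group Γ]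

/-- The elements `n i` normalise `H` and satisfy the Coxeter relations modulo `H`. -/
structure Pre (M : CoxeterMatrix I) (n : I → Γ) (H : Subgroup Γ) : Prop where
  norm : ∀ i, n i ∈ Subgroup.normalizer (H : Set Γ)
  rel : ∀ i j, (n i * n j) ^ (M i j) ∈ H

namespace Pre

variable {n : I → Γ} {H : Subgroup Γ} (hn : Pre M n H) (cs : CoxeterSystem M W)

/-- The quotient `N(H)/H`. -/
abbrev Qt (H : Subgroup Γ) : Type _ :=
  ↥(Subgroup.normalizer (H : Set Γ)) ⧸ (H.subgroupOf (Subgroup.normalizer (H : Set Γ)))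

include hn in
theorem liftable : M.IsLiftable (fun i => (QuotientGroup.mk
    (⟨n i, hn.norm i⟩ : ↥(Subgroup.normalizer (H : Set Γ))) : Qt H)) := by
  intro i j
  have h1 : (QuotientGroup.mk ((⟨n i, hn.norm i⟩ : ↥(Subgroup.normalizer (H : Set Γ))) *
      ⟨n j, hn.norm j⟩) ^ (M i j) : Qt H) = 1 := by
    rw [← QuotientGroup.mk_pow, QuotientGroup.eq_one_iff, Subgroup.mem_subgroupOf]
    exact hn.rel i j
  exact h1

/-- The homomorphism `W → N(H)/H`. -/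
noncomputable def phi : W →* Qt H := cs.lift ⟨_, hn.liftable⟩

theorem phi_simple (i : I) : hn.phi cs (cs.simple i) = QuotientGroup.mk
    (⟨n i, hn.norm i⟩ : ↥(Subgroup.normalizer (H : Set Γ))) :=
  cs.lift_apply_simple hn.liftable i

/-- The coset above `w`. -/
def Lf (w : W) : Set Γ :=
  {g | ∃ hg : g ∈ Subgroup.normalizer (H : Set Γ), (QuotientGroup.mk
    (⟨g, hg⟩ : ↥(Subgroup.normalizer (H : Set Γ))) : Qt H) = hn.phi cs w}

theorem simple_mem (i : I) : n i ∈ hn.Lf cs (cs.simple i) := ⟨hn.norm i, (hn.phi_simple cs i).symm⟩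

theorem one_mem {t : Γ} (ht : t ∈ H) : t ∈ hn.Lf cs 1 := by
  refine ⟨Subgroup.le_normalizer ht, ?_⟩
  rw [map_one, QuotientGroup.eq_one_iff, Subgroup.mem_subgroupOf]
  exact ht

theorem mul_mem {v w : W} {g g' : Γ} (h1 : g ∈ hn.Lf cs v) (h2 : g' ∈ hn.Lf cs w) :
    g * g' ∈ hn.Lf cs (v * w) := by
  obtain ⟨a1, a2⟩ := h1
  obtain ⟨b1, b2⟩ := h2
  refine ⟨Subgroup.mul_mem _ a1 b1, ?_⟩
  rw [map_mul, ← a2, ← b2]
  rfl

theorem inv_mem {w : W} {g : Γ} (h1 : g ∈ hn.Lf cs w) : g⁻¹ ∈ hn.Lf cs w⁻¹ := by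
  obtain ⟨a1, a2⟩ := h1
  refine ⟨Subgroup.inv_mem _ a1, ?_⟩
  rw [map_inv, ← a2]
  rfl

theorem exists_mem (w : W) : ∃ g, g ∈ hn.Lf cs w := by
  obtain ⟨g, hg⟩ := QuotientGroup.mk_surjective (hn.phi cs w)
  exact ⟨g, g.2, hg⟩

theorem mem_H {g : Γ} (h1 : g ∈ hn.Lf cs 1) : g ∈ H := by
  obtain ⟨a1, a2⟩ := h1
  rw [map_one, QuotientGroup.eq_one_iff, Subgroup.mem_subgroupOf] at a2
  exact a2

theorem eq_mul {w : W} {g g' : Γ} (h1 : g ∈ hn.Lf cs w) (h2 : g' ∈ hn.Lf cs w) :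
    ∃ t ∈ H, g' = g * t := by
  refine ⟨g⁻¹ * g', ?_, by group⟩
  have := hn.mul_mem cs (hn.inv_mem cs h1) h2
  rw [inv_mul_cancel] at this
  exact hn.mem_H cs this

theorem mul_H {w : W} {g t : Γ} (h1 : g ∈ hn.Lf cs w) (ht : t ∈ H) : g * t ∈ hn.Lf cs w := by
  have := hn.mul_mem cs h1 (hn.one_mem cs ht)
  rwa [mul_one] at this

theorem H_mul {w : W} {g t : Γ} (h1 : g ∈ hn.Lf cs w) (ht : t ∈ H) : t * g ∈ hn.Lf cs w := by
  have := hn.mul_mem cs (hn.one_mem cs ht) h1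
  rwa [one_mul] at this

theorem word_mem (ω : List I) : (ω.map n).prod ∈ hn.Lf cs (cs.wordProd ω) := by
  induction ω with
  | nil => rw [List.map_nil, List.prod_nil, wordProd_nil]; exact hn.one_mem cs H.one_mem
  | cons i ω ih =>
    rw [List.map_cons, List.prod_cons, wordProd_cons]
    exact hn.mul_mem cs (hn.simple_mem cs i) ih

end Pre

end Cfsg.Agent.CurtisTits
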