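import Mathlib
import Cfsg.Agent.CurtisTits.Lift
/-!
Levi type Curtis-Tits theorem, main part.

`RD` : torus `H`, root groups `X i` of the simple roots, elements `n i`, with the relations of a root group
datum inside every standard rank two subgroup.  `ker_le_center` : a homomorphism to a group `K` such
that the images of the positive root groups and of the torus lie in a subgroup `BK` containing no `n i` has central
kernel.
-/

set_option autoImplicit false
set_option linter.unusedSectionVars false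

namespace Cfsg.Agent.CurtisTits

open CoxeterSystem Cfsg.Agent.ChevalleyStructure.CoxeterGeom Cfsg.Agent.Tits.Roots
open Cfsg.Agent.Tits.Exchange Cfsg.Agent.Tits.Core Cfsg.Agent.Tits.RootComb Comb
open scoped commutatorElement

variable {I W : Type*} [Fintype I] [DecidableEq I] [Group W] {M : CoxeterMatrix I}
  {cs : CoxeterSystem M W} {A : I → I → ℤ} {h : IsCartan M A} {Γ : Type*} [Group Γ]
  {n : I → Γ} {H : Subgroup Γ} {X : I → Subgroup Γ}

variable (cs h X) in
/-- The root group of the vector `x`. -/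
def XR (hn : Pre M n H) (x : I → ℤ) : Subgroup Γ :=
  ⨆ (w : W) (i : I) (_ : rep cs h w (sr i) = x) (g : Γ) (_ : g ∈ hn.Lf cs w), cj g (X i)

variable (cs h X) in
/-- The group generated by the root groups of the roots `p x + q y`, `p, q > 0`. -/
def Int' (hn : Pre M n H) (x y : I → ℤ) : Subgroup Γ :=
  ⨆ (z : I → ℤ) (_ : IsRoot cs h z) (_ : ∃ p q : ℤ, 0 < p ∧ 0 < q ∧ z = p • x + q • y), XR cs h X hn z

variable (cs h n H X) in
/-- Root data in standard rank two subgroups. -/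
structure RD : Prop extends Pre M n H where
  HX : ∀ i, ∀ t ∈ H, ∀ x ∈ X i, t * x * t⁻¹ ∈ X i
  tw : ∀ i k, k ≠ i → ∀ u ∈ WJ cs {i, k}, ∀ l, (l = i ∨ l = k) → rep cs h u (sr i) = sr l →
    ∀ g ∈ toPre.Lf cs u, cj g (X i) = X l
  comm : ∀ l k, k ≠ l → ∀ v ∈ WJ cs {l, k}, ∀ m, (m = l ∨ m = k) → 0 ≤ rep cs h v (sr m) →
    rep cs h v (sr m) ≠ sr l → ∀ g ∈ toPre.Lf cs v, ∀ a ∈ X l, ∀ b ∈ cj g (X m),
      ⁅a, b⁆ ∈ Int' cs h X toPre (sr l) (rep cs h v (sr m))
  one : ∀ i, ∀ x ∈ X i, x ≠ 1 → ∃ a ∈ X i, ∃ b ∈ X i, ∃ t ∈ H, n i * x * (n i)⁻¹ = a * n i * t * b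

section Basic

variable (hn : Pre M n H)

theorem cj_le_XR {w : W} {i : I} {g : Γ} (hg : g ∈ hn.Lf cs w) :
    cj g (X i) ≤ XR cs h X hn (rep cs h w (sr i)) :=
  le_iSup_of_le w (le_iSup_of_le i (le_iSup_of_le rfl (le_iSup_of_le g (le_iSup_of_le hg le_rfl))))

theorem cj_XR_le {w : W} {g : Γ} (hg : g ∈ hn.Lf cs w) (x : I → ℤ) :
    cj g (XR cs h X hn x) ≤ XR cs h X hn (rep cs h w x) := by
  unfold XR
  simp only [cj_iSup]
  refine iSup_le fun w' => iSup_le fun i => iSup_le fun e => iSup_le fun g' => iSup_le fun hg' => ?_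
  rw [← cj_mul, ← e, ← rep_mul_apply]
  exact cj_le_XR hn (hn.mul_mem cs hg hg')

theorem cj_XR {w : W} {g : Γ} (hg : g ∈ hn.Lf cs w) (x : I → ℤ) :
    cj g (XR cs h X hn x) = XR cs h X hn (rep cs h w x) := by
  refine le_antisymm (cj_XR_le hn hg x) ?_
  have h1 := cj_XR_le (cs := cs) (h := h) (X := X) hn (hn.inv_mem cs hg) (rep cs h w x)
  rw [← rep_mul_apply, inv_mul_cancel, map_one, Module.End.one_apply] at h1
  have h2 := cj_mono g h1
  rwa [← cj_mul, mul_inv_cancel, cj_one] at h2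

theorem conj_mem_XR {w : W} {g : Γ} (hg : g ∈ hn.Lf cs w) {x : I → ℤ} {a : Γ}
    (ha : a ∈ XR cs h X hn x) : g * a * g⁻¹ ∈ XR cs h X hn (rep cs h w x) := by
  rw [← cj_XR hn hg]
  exact conj_mem_cj.2 ha

theorem XR_le_Int {x y z : I → ℤ} (hz : IsRoot cs h z)
    (hz' : ∃ p q : ℤ, 0 < p ∧ 0 < q ∧ z = p • x + q • y) :
    XR cs h X hn z ≤ Int' cs h X hn x y :=
  le_iSup_of_le z (le_iSup_of_le hz (le_iSup_of_le hz' le_rfl))

theorem cj_Int {w : W} {g : Γ} (hg : g ∈ hn.Lf cs w) (x y : I → ℤ) :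
    cj g (Int' cs h X hn x y) ≤ Int' cs h X hn (rep cs h w x) (rep cs h w y) := by
  rw [Int']
  simp only [cj_iSup]
  refine iSup_le fun z => iSup_le fun hz => iSup_le fun hz' => ?_
  rw [cj_XR hn hg]
  obtain ⟨p, q, hp, hq, e⟩ := hz'
  refine XR_le_Int hn (hz.act w) ⟨p, q, hp, hq, ?_⟩
  rw [e, map_add, map_smul, map_smul]

end Basic

namespace RD

variable (D : RD cs h n H X)

include D in
theorem cj_H (i : I) {t : Γ} (ht : t ∈ H) : cj t (X i) = X i := by
  ext x
  rw [mem_cj]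
  constructor
  · intro hx
    have := D.HX i t ht _ hx
    have e : t * (t⁻¹ * x * t) * t⁻¹ = x := by group
    rwa [e] at this
  · intro hx
    have := D.HX i t⁻¹ (inv_mem ht) x hx
    rwa [inv_inv] at this

/-- **Well-definedness.** -/
theorem cj_eq_of_simple : ∀ (w : W) (i j : I), rep cs h w (sr i) = sr j →
    ∀ g ∈ D.toPre.Lf cs w, cj g (X i) = X j := by
  refine moves_induction cs h (fun w i j => ∀ g ∈ D.toPre.Lf cs w, cj g (X i) = X j) ?_ ?_
  · intro i g hg
    exact D.cj_H i (D.toPre.mem_H cs hg)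
  · intro v l j u i k hk hu hl h3 _ ih g hg
    obtain ⟨g1, hg1⟩ := D.toPre.exists_mem cs v
    have hg2 : g1⁻¹ * g ∈ D.toPre.Lf cs u := by
      have := D.toPre.mul_mem cs (D.toPre.inv_mem cs hg1) hg
      rwa [inv_mul_cancel_left] at this
    have e : g = g1 * (g1⁻¹ * g) := by group
    rw [e, cj_mul, D.tw i k hk u hu l hl h3 _ hg2]
    exact ih g1 hg1

theorem cj_eq {w w' : W} {i j : I} (e : rep cs h w (sr i) = rep cs h w' (sr j)) {g g' : Γ}
    (hg : g ∈ D.toPre.Lf cs w) (hg' : g' ∈ D.toPre.Lf cs w') : cj g (X i) = cj g' (X j) := by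
  have h1 : rep cs h (w'⁻¹ * w) (sr i) = sr j := by
    rw [rep_mul_apply, e, ← rep_mul_apply, inv_mul_cancel, map_one, Module.End.one_apply]
  rw [← D.cj_eq_of_simple _ i j h1 (g'⁻¹ * g) (D.toPre.mul_mem cs (D.toPre.inv_mem cs hg') hg),
    ← cj_mul, mul_inv_cancel_left]

theorem XR_rep {w : W} {i : I} {g : Γ} (hg : g ∈ D.toPre.Lf cs w) :
    XR cs h X D.toPre (rep cs h w (sr i)) = cj g (X i) := by
  refine le_antisymm ?_ (cj_le_XR D.toPre hg)
  unfold XR
  refine iSup_le fun w' => iSup_le fun j => iSup_le fun e => iSup_le fun g' => iSup_le fun hg' => ?_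
  exact (D.cj_eq e hg' hg).le

theorem XR_simple (i : I) : XR cs h X D.toPre (sr i) = X i := by
  have h1 := D.XR_rep (i := i) (D.toPre.one_mem cs H.one_mem)
  rwa [map_one, Module.End.one_apply, cj_one] at h1

variable [Finite W]

/-- Commutator relations for a simple root and a positive root. -/
theorem comm_simple {j : I} {x : I → ℤ} (hx : IsRoot cs h x) (h0 : 0 ≤ x) (hxj : x ≠ sr j) {a b : Γ}
    (ha : a ∈ X j) (hb : b ∈ XR cs h X D.toPre x) : ⁅a, b⁆ ∈ Int' cs h X D.toPre (sr j) x := by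
  obtain ⟨y, l, k, hkl, hy, v, hv, m, hm, e, hpos⟩ := exists_plane cs h j hx h0 hxj
  obtain ⟨g, hg⟩ := D.toPre.exists_mem cs y
  obtain ⟨g', hg'⟩ := D.toPre.exists_mem cs v
  have ha' : g⁻¹ * a * g ∈ X l := by
    rw [← mem_cj, D.cj_eq_of_simple y l j hy g hg]; exact ha
  have hb' : g⁻¹ * b * g ∈ cj g' (X m) := by
    rw [← mem_cj, ← cj_mul, ← D.XR_rep (i := m) (D.toPre.mul_mem cs hg hg'), ← e]
    exact hb
  have hne : rep cs h v (sr m) ≠ sr l := by
    intro e2
    apply hxj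
    rw [e, rep_mul_apply, e2, hy]
  have h1 := D.comm l k hkl v hv m hm hpos hne g' hg' _ ha' _ hb'
  have h2 := cj_Int D.toPre hg _ _ (conj_mem_cj.2 h1)
  rw [cj_commutator, hy, ← rep_mul_apply, ← e] at h2
  have e1 : g * (g⁻¹ * a * g) * g⁻¹ = a := by group
  have e2 : g * (g⁻¹ * b * g) * g⁻¹ = b := by group
  rwa [e1, e2] at h2

/-- Commutator relations. -/
theorem comm_gen {w : W} {j : I} {x : I → ℤ} (hx : IsRoot cs h x) (h0 : 0 ≤ rep cs h w⁻¹ x)
    (hxj : x ≠ rep cs h w (sr j)) {a b : Γ}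
    (ha : a ∈ XR cs h X D.toPre (rep cs h w (sr j))) (hb : b ∈ XR cs h X D.toPre x) :
    ⁅a, b⁆ ∈ Int' cs h X D.toPre (rep cs h w (sr j)) x := by
  obtain ⟨g, hg⟩ := D.toPre.exists_mem cs w
  have ha' : g⁻¹ * a * g ∈ X j := by
    rw [← mem_cj, ← D.XR_rep hg]; exact ha
  have hb' : g⁻¹ * b * g ∈ XR cs h X D.toPre (rep cs h w⁻¹ x) := by
    have := conj_mem_XR D.toPre (D.toPre.inv_mem cs hg) hb
    rwa [inv_inv] at this
  have hne : rep cs h w⁻¹ x ≠ sr j := by
    intro e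
    apply hxj
    rw [← e, rep_apply_inv]
  have h2 := cj_Int D.toPre hg _ _ (conj_mem_cj.2 (D.comm_simple (hx.act w⁻¹) h0 hne ha' hb'))
  rw [cj_commutator, rep_apply_inv] at h2
  have e1 : g * (g⁻¹ * a * g) * g⁻¹ = a := by group
  have e2 : g * (g⁻¹ * b * g) * g⁻¹ = b := by group
  rwa [e1, e2] at h2

/-- `U_[w]` : generated by the root groups of the roots `x > 0` with `w⁻¹ x > 0`. -/
def Up (w : W) : Subgroup Γ :=
  ⨆ (x : I → ℤ) (_ : IsRoot cs h x) (_ : 0 ≤ x) (_ : 0 ≤ rep cs h w⁻¹ x), XR cs h X D.toPre x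

omit [Finite W] in
theorem XR_le_Up {w : W} {x : I → ℤ} (hx : IsRoot cs h x) (h0 : 0 ≤ x)
    (h1 : 0 ≤ rep cs h w⁻¹ x) : XR cs h X D.toPre x ≤ D.Up w :=
  le_iSup_of_le x (le_iSup_of_le hx (le_iSup_of_le h0 (le_iSup_of_le h1 le_rfl)))

theorem Int_le_Up {w : W} {j : I} {x : I → ℤ} (hα : 0 ≤ rep cs h w (sr j)) (hx : IsRoot cs h x)
    (h0 : 0 ≤ x) (h1 : 0 ≤ rep cs h (w * cs.simple j)⁻¹ x) :
    Int' cs h X D.toPre (rep cs h w (sr j)) x ≤ D.Up (w * cs.simple j) := by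
  rw [Int']
  refine iSup_le fun z => iSup_le fun hz => iSup_le fun hz' => ?_
  obtain ⟨p, q, hp, hq, e⟩ := hz'
  rw [mul_inv_rev, inv_simple, rep_mul_apply] at h1
  -- `w⁻¹ x` is positive and different from `α_j`
  have hne : rep cs h w⁻¹ x ≠ sr j := by
    intro e2
    rw [e2, rep_simple_sr] at h1
    have := h1 j
    simp [sr_self] at this
  have h2 : 0 ≤ rep cs h w⁻¹ x := by
    rcases (hx.act w⁻¹).pos_or_neg with h3 | h3
    · exact h3
    · exfalso
      have h4 : 0 ≤ -rep cs h w⁻¹ x := neg_nonneg.2 h3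
      by_cases h5 : -rep cs h w⁻¹ x = sr j
      · have h6 : rep cs h (cs.simple j) (rep cs h w⁻¹ x) = sr j := by
          rw [← neg_neg (rep cs h w⁻¹ x), map_neg, h5, rep_simple_sr, neg_neg]
        have h7 : rep cs h w⁻¹ x = -sr j := by rw [← h5, neg_neg]
        have h8 : x = -rep cs h w (sr j) := by
          rw [← map_neg, ← h7, rep_apply_inv]
        have h9 : x ≤ 0 := by rw [h8]; exact neg_nonpos.2 hα
        exact hx.not_pos_neg h0 h9
      · have h6 := (hx.act w⁻¹).neg.simple_nonneg h4 j h5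
        rw [map_neg] at h6
        exact ((hx.act w⁻¹).act (cs.simple j)).not_pos_neg h1 (neg_nonneg.1 h6)
  have hz1 : 0 ≤ z := by
    rw [e]
    exact add_nonneg (smul_nonneg hp.le hα) (smul_nonneg hq.le h0)
  have hz2 : rep cs h w⁻¹ z = p • sr j + q • rep cs h w⁻¹ x := by
    rw [e, map_add, map_smul, map_smul, rep_inv_apply]
  have hz3 : 0 ≤ rep cs h w⁻¹ z := by
    rw [hz2]
    exact add_nonneg (smul_nonneg hp.le (sr_nonneg j)) (smul_nonneg hq.le h2)
  have hz4 : rep cs h w⁻¹ z ≠ sr j := by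
    intro e2
    apply hne
    refine (hx.act w⁻¹).eq_sr h2 j fun k hk => ?_
    have e3 := congrFun (hz2.symm.trans e2) k
    simp only [Pi.add_apply, Pi.smul_apply, smul_eq_mul, sr_ne hk, mul_zero, zero_add] at e3
    exact (mul_eq_zero.1 e3).resolve_left hq.ne'
  refine D.XR_le_Up hz hz1 ?_
  rw [mul_inv_rev, inv_simple, rep_mul_apply]
  exact (hz.act w⁻¹).simple_nonneg hz3 j hz4

theorem XR_le_normalizer {w : W} {j : I} (hα : 0 ≤ rep cs h w (sr j)) :
    XR cs h X D.toPre (rep cs h w (sr j)) ≤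
      Subgroup.normalizer (D.Up (w * cs.simple j) : Set Γ) := by
  have key : ∀ a ∈ XR cs h X D.toPre (rep cs h w (sr j)), ∀ y ∈ D.Up (w * cs.simple j),
      a * y * a⁻¹ ∈ D.Up (w * cs.simple j) := by
    intro a ha
    have h1 : D.Up (w * cs.simple j) ≤ cj a⁻¹ (D.Up (w * cs.simple j)) := by
      conv_lhs => unfold Up
      refine iSup_le fun x => iSup_le fun hx => iSup_le fun h0 => iSup_le fun h1 => ?_
      intro y hy
      rw [mem_cj, inv_inv]
      have h2 : 0 ≤ rep cs h w⁻¹ x ∧ x ≠ rep cs h w (sr j) := by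
        rw [mul_inv_rev, inv_simple, rep_mul_apply] at h1
        have hne : x ≠ rep cs h w (sr j) := by
          rintro rfl
          rw [rep_inv_apply, rep_simple_sr] at h1
          have := h1 j
          simp [sr_self] at this
        refine ⟨?_, hne⟩
        rcases (hx.act w⁻¹).pos_or_neg with h3 | h3
        · exact h3
        · exfalso
          have h4 : 0 ≤ -rep cs h w⁻¹ x := neg_nonneg.2 h3
          by_cases h5 : -rep cs h w⁻¹ x = sr j
          · have h7 : rep cs h w⁻¹ x = -sr j := by rw [← h5, neg_neg]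
            have h8 : x = -rep cs h w (sr j) := by
              rw [← map_neg, ← h7, rep_apply_inv]
            have h9 : x ≤ 0 := by rw [h8]; exact neg_nonpos.2 hα
            exact hx.not_pos_neg h0 h9
          · have h6 := (hx.act w⁻¹).neg.simple_nonneg h4 j h5
            rw [map_neg] at h6
            exact ((hx.act w⁻¹).act (cs.simple j)).not_pos_neg h1 (neg_nonneg.1 h6)
      have h3 := D.comm_gen hx h2.1 h2.2 ha hy
      have h4 := D.Int_le_Up hα hx h0 h1 h3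
      have e : a * y * a⁻¹ = ⁅a, y⁆ * y := by rw [commutatorElement_def]; group
      rw [e]
      exact mul_mem h4 (D.XR_le_Up hx h0 h1 hy)
    intro y hy
    have := h1 hy
    rwa [mem_cj, inv_inv] at this
  intro a ha
  rw [Subgroup.mem_normalizer_iff]
  intro y
  refine ⟨key a ha y, fun hy => ?_⟩
  have := key a⁻¹ (inv_mem ha) _ hy
  have e : a⁻¹ * (a * y * a⁻¹) * a⁻¹⁻¹ = y := by group
  rwa [e] at this

theorem Up_eq {w : W} {j : I} (hα : 0 ≤ rep cs h w (sr j)) :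
    D.Up w ≤ XR cs h X D.toPre (rep cs h w (sr j)) ⊔ D.Up (w * cs.simple j) := by
  conv_lhs => unfold Up
  refine iSup_le fun x => iSup_le fun hx => iSup_le fun h0 => iSup_le fun h1 => ?_
  by_cases hxj : x = rep cs h w (sr j)
  · rw [hxj]; exact le_sup_left
  · refine le_sup_of_le_right (D.XR_le_Up hx h0 ?_)
    rw [mul_inv_rev, inv_simple, rep_mul_apply]
    refine (hx.act w⁻¹).simple_nonneg h1 j fun e => hxj ?_
    rw [← e, rep_apply_inv]

theorem Up_mul {w : W} {j : I} (hα : 0 ≤ rep cs h w (sr j)) {u : Γ} (hu : u ∈ D.Up w) :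
    ∃ a ∈ XR cs h X D.toPre (rep cs h w (sr j)), ∃ v ∈ D.Up (w * cs.simple j), u = a * v := by
  have h1 := D.Up_eq hα hu
  have h2 : u ∈ (↑(XR cs h X D.toPre (rep cs h w (sr j)) ⊔ D.Up (w * cs.simple j)) : Set Γ) := h1
  rw [Subgroup.coe_mul_of_left_le_normalizer_right _ _ (D.XR_le_normalizer hα), Set.mem_mul] at h2
  obtain ⟨a, ha, v, hv, e⟩ := h2
  exact ⟨a, ha, v, hv, e.symm⟩

theorem Up_w0 : D.Up (w0 cs) = ⊥ := by
  rw [eq_bot_iff]
  unfold Up
  refine iSup_le fun x => iSup_le fun hx => iSup_le fun h0 => iSup_le fun h1 => ?_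
  rw [w0_inv] at h1
  exact absurd (w0_neg cs h h0) ((hx.act (w0 cs)).not_pos_neg h1)

omit [Finite W] in
theorem cj_Up_le {w : W} {j : I} {g : Γ} (hg : g ∈ D.toPre.Lf cs w) :
    cj (n j) (cj g⁻¹ (D.Up (w * cs.simple j))) ≤ D.Up 1 := by
  rw [← cj_mul]
  unfold Up
  simp only [cj_iSup]
  refine iSup_le fun x => iSup_le fun hx => iSup_le fun h0 => iSup_le fun h1 => ?_
  rw [cj_XR D.toPre (D.toPre.mul_mem cs (D.toPre.simple_mem cs j) (D.toPre.inv_mem cs hg))]
  rw [mul_inv_rev, inv_simple] at h1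
  exact le_iSup_of_le _ (le_iSup_of_le (hx.act _) (le_iSup_of_le h1
    (le_iSup_of_le (by rw [inv_one, map_one, Module.End.one_apply]; exact h1) le_rfl)))

section Kernel

variable {K : Type*} [Group K] (π : Γ →* K) {BK : Subgroup K}
  (hH : ∀ t ∈ H, π t ∈ BK)
  (hX : ∀ x, IsRoot cs h x → 0 ≤ x → ∀ a ∈ XR cs h X D.toPre x, π a ∈ BK)
  (hnB : ∀ i, π (n i) ∉ BK)

include hX in
omit [Finite W] in
theorem U_mem {w : W} {u : Γ} (hu : u ∈ D.Up w) : π u ∈ BK := by
  have h1 : D.Up w ≤ BK.comap π := by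
    unfold Up
    refine iSup_le fun x => iSup_le fun hx => iSup_le fun h0 => iSup_le fun _ => ?_
    intro a ha
    exact hX x hx h0 a ha
  exact h1 hu

include hH hX hnB in
omit [Finite W] in
theorem eq_one_of_mem {i : I} {x : Γ} (hx : x ∈ X i) (h1 : π (n i * x * (n i)⁻¹) ∈ BK) : x = 1 := by
  by_contra hne
  obtain ⟨a, ha, b, hb, t, ht, e⟩ := D.one i x hx hne
  have hXi : ∀ a ∈ X i, π a ∈ BK := by
    intro a ha
    refine hX (sr i) (isRoot_sr cs h i) (sr_nonneg i) a ?_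
    rw [D.XR_simple]; exact ha
  apply hnB i
  rw [e, map_mul, map_mul, map_mul] at h1
  have h2 := BK.mul_mem (BK.mul_mem (BK.inv_mem (hXi a ha)) h1)
    (BK.inv_mem (BK.mul_mem (hH t ht) (hXi b hb)))
  have e2 : (π a)⁻¹ * (π a * π (n i) * π t * π b) * (π t * π b)⁻¹ = π (n i) := by group
  rwa [e2] at h2

include hH hX hnB in
theorem eq_one_of_ker : ∀ (k : ℕ) (w : W), cs.length (w0 cs) - cs.length w = k → ∀ u ∈ D.Up w,
    π u = 1 → u = 1 := by
  intro k
  induction k with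
  | zero =>
    intro w hw u hu _
    have : w = w0 cs := eq_w0_of_length cs (by omega)
    rw [this, D.Up_w0] at hu
    exact hu
  | succ k ih =>
    intro w hw u hu hπ
    -- a simple root `j` with `w α_j > 0`
    have hj : ∃ j, cs.length w < cs.length (w * cs.simple j) := by
      by_contra hcon
      push Not at hcon
      have : w0 cs * w = 1 := by
        refine eq_one_of_nonneg cs h _ fun j => ?_
        have h1 : rep cs h w (sr j) ≤ 0 := by
          rcases (isRoot_rt (h := h) (cs := cs) w j).pos_or_neg with h2 | h2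
          · rw [← length_lt_iff cs h] at h2
            have := hcon j
            omega
          · exact h2
        change 0 ≤ rep cs h (w0 cs * w) (sr j)
        have h3 := w0_neg cs h (neg_nonneg.2 h1)
        rw [map_neg] at h3
        rw [rep_mul_apply]
        exact neg_nonpos.1 h3
      have h2 : w = w0 cs := by
        rw [← w0_inv]
        exact eq_inv_of_mul_eq_one_right this
      rw [h2] at hw
      omega
    obtain ⟨j, hj⟩ := hj
    have hα := (length_lt_iff cs h w j).1 hj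
    obtain ⟨a, ha, v, hv, rfl⟩ := D.Up_mul hα hu
    obtain ⟨g, hg⟩ := D.toPre.exists_mem cs w
    have ha' : g⁻¹ * a * g ∈ X j := by
      rw [← mem_cj, ← D.XR_rep hg]; exact ha
    have hv' : n j * (g⁻¹ * v * g) * (n j)⁻¹ ∈ D.Up 1 := by
      refine D.cj_Up_le (w := w) (j := j) hg ?_
      rw [conj_mem_cj, mem_cj]
      have : g⁻¹⁻¹ * (g⁻¹ * v * g) * g⁻¹ = v := by group
      rw [this]
      exact hv
    have h1 : g⁻¹ * a * g = 1 := by
      refine D.eq_one_of_mem π hH hX hnB ha' ?_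
      have h2 := BK.inv_mem (D.U_mem π hX hv')
      have e : n j * (g⁻¹ * a * g) * (n j)⁻¹ =
          (n j * g⁻¹ * (a * v) * (n j * g⁻¹)⁻¹) * (n j * (g⁻¹ * v * g) * (n j)⁻¹)⁻¹ := by group
      rw [e, map_mul]
      have e2 : π (n j * g⁻¹ * (a * v) * (n j * g⁻¹)⁻¹) = 1 := by
        rw [map_mul, map_mul, hπ, mul_one, ← map_mul, mul_inv_cancel, map_one]
      rw [e2, one_mul, map_inv]
      exact h2
    have h3 : a = 1 := by
      have : a = g * (g⁻¹ * a * g) * g⁻¹ := by group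
      rw [this, h1, mul_one, mul_inv_cancel]
    rw [h3, one_mul]
    rw [h3, one_mul] at hπ
    refine ih (w * cs.simple j) ?_ v hv hπ
    rcases cs.length_mul_simple w j with h4 | h4
    · omega
    · omega

include D in
/-- Elements of the form `u l u'`. -/
theorem bruhat_n {i : I} {g : Γ} (hg : ∃ b ∈ D.Up 1, ∃ w, ∃ l ∈ D.toPre.Lf cs w, ∃ b' ∈ D.Up 1,
    g = b * l * b') : ∃ b ∈ D.Up 1, ∃ w, ∃ l ∈ D.toPre.Lf cs w, ∃ b' ∈ D.Up 1,
    n i * g = b * l * b' := by
  obtain ⟨b, hb, w, l, hl, b', hb', rfl⟩ := hg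
  have h1i : 0 ≤ rep cs h (1 : W) (sr i) := by
    rw [map_one, Module.End.one_apply]; exact sr_nonneg i
  obtain ⟨a0, ha0, c0, hc0, e0⟩ := D.Up_mul (w := 1) (j := i) h1i (inv_mem hb)
  rw [map_one, Module.End.one_apply, D.XR_simple] at ha0
  -- `b = c a`
  set a := a0⁻¹ with ha
  set c := c0⁻¹ with hc
  have hbe : b = c * a := by
    rw [hc, ha, ← mul_inv_rev, ← e0, inv_inv]
  have haX : a ∈ X i := inv_mem ha0
  have hcU : n i * c * (n i)⁻¹ ∈ D.Up 1 := by
    have h2 : c ∈ D.Up (1 * cs.simple i) := inv_mem hc0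
    have h3 := D.cj_Up_le (w := 1) (j := i) (D.toPre.one_mem cs H.one_mem) (conj_mem_cj.2
      (show (1 : Γ)⁻¹ * c * (1 : Γ)⁻¹⁻¹ ∈ cj (1 : Γ)⁻¹ (D.Up (1 * cs.simple i)) from
        conj_mem_cj.2 h2))
    simpa using h3
  have hU : ∀ {x : I → ℤ}, IsRoot cs h x → 0 ≤ x → XR cs h X D.toPre x ≤ D.Up 1 := by
    intro x hx h0
    exact D.XR_le_Up hx h0 (by rw [inv_one, map_one, Module.End.one_apply]; exact h0)
  -- moving `X i` to the right through `l`
  have move : ∀ {w : W} {l : Γ}, l ∈ D.toPre.Lf cs w → 0 ≤ rep cs h w⁻¹ (sr i) → ∀ a ∈ X i,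
      l⁻¹ * a * l ∈ D.Up 1 := by
    intro w l hl h0 a ha
    refine hU (x := rep cs h w⁻¹ (sr i)) ((isRoot_sr cs h i).act _) h0 ?_
    have := conj_mem_XR (cs := cs) (h := h) (X := X) D.toPre (D.toPre.inv_mem cs hl)
      (x := sr i) (a := a) (by rw [D.XR_simple]; exact ha)
    rwa [inv_inv] at this
  rcases ((isRoot_sr cs h i).act w⁻¹).pos_or_neg with h0 | h0
  · refine ⟨n i * c * (n i)⁻¹, hcU, cs.simple i * w, n i * l,
      D.toPre.mul_mem cs (D.toPre.simple_mem cs i) hl, (l⁻¹ * a * l) * b',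
      mul_mem (move hl h0 a haX) hb', ?_⟩
    rw [hbe]; group
  · -- `l = n i * l'`
    set l' := (n i)⁻¹ * l with hl'
    have hl'' : l' ∈ D.toPre.Lf cs ((cs.simple i)⁻¹ * w) :=
      D.toPre.mul_mem cs (D.toPre.inv_mem cs (D.toPre.simple_mem cs i)) hl
    have h0' : 0 ≤ rep cs h ((cs.simple i)⁻¹ * w)⁻¹ (sr i) := by
      rw [mul_inv_rev, inv_inv, rep_mul_apply, rep_simple_sr, map_neg]
      exact neg_nonneg.2 h0
    have hsq : n i * n i ∈ H := by
      have := D.rel i i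
      rwa [M.diagonal, pow_one] at this
    by_cases ha1 : a = 1
    · refine ⟨n i * c * (n i)⁻¹, hcU, _, n i * n i * l', D.toPre.H_mul cs hl'' hsq, b', hb', ?_⟩
      rw [hbe, ha1, hl']; group
    · obtain ⟨a1, ha1, a2, ha2, t, ht, e⟩ := D.one i a haX ha1
      have ha3 : (n i * n i)⁻¹ * a2 * (n i * n i) ∈ X i := by
        have := D.HX i _ (inv_mem hsq) _ ha2
        rwa [inv_inv] at this
      refine ⟨(n i * c * (n i)⁻¹) * a1, mul_mem hcU (hU (isRoot_sr cs h i) (sr_nonneg i)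
        (by rw [D.XR_simple]; exact ha1)), _, n i * (t * (n i * n i)) * l',
        D.toPre.mul_mem cs (D.toPre.mul_H cs (D.toPre.simple_mem cs i) (mul_mem ht hsq)) hl'',
        (l'⁻¹ * ((n i * n i)⁻¹ * a2 * (n i * n i)) * l') * b',
        mul_mem (move hl'' h0' _ ha3) hb', ?_⟩
      rw [hbe]
      calc n i * (c * a * l * b') = (n i * c * (n i)⁻¹) * (n i * a * (n i)⁻¹) * (n i * n i) * l' * b' := by
            rw [hl']; group
        _ = _ := by rw [e]; group

theorem H_norm {t : Γ} (ht : t ∈ H) {u : Γ} (hu : u ∈ D.Up 1) : t * u * t⁻¹ ∈ D.Up 1 := by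
  have h1 : cj t (D.Up 1) ≤ D.Up 1 := by
    conv_lhs => unfold Up
    simp only [cj_iSup]
    refine iSup_le fun x => iSup_le fun hx => iSup_le fun h0 => iSup_le fun h1 => ?_
    rw [cj_XR D.toPre (D.toPre.one_mem cs ht), map_one, Module.End.one_apply]
    exact D.XR_le_Up hx h0 h1
  exact h1 (conj_mem_cj.2 hu)

theorem bruhat (hgen : Subgroup.closure ({g : Γ | ∃ i, g ∈ X i} ∪ Set.range n ∪ (H : Set Γ)) = ⊤)
    (g : Γ) : ∃ b ∈ D.Up 1, ∃ w, ∃ l ∈ D.toPre.Lf cs w, ∃ b' ∈ D.Up 1, g = b * l * b' := by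
  have hU : ∀ {i : I} {a : Γ}, a ∈ X i → a ∈ D.Up 1 := by
    intro i a ha
    refine D.XR_le_Up (x := sr i) (isRoot_sr cs h i) (sr_nonneg i)
      (by rw [inv_one, map_one, Module.End.one_apply]; exact sr_nonneg i) ?_
    rw [D.XR_simple]; exact ha
  have hHm : ∀ {t : Γ}, t ∈ H → ∀ {g : Γ}, (∃ b ∈ D.Up 1, ∃ w, ∃ l ∈ D.toPre.Lf cs w, ∃ b' ∈ D.Up 1,
      g = b * l * b') → ∃ b ∈ D.Up 1, ∃ w, ∃ l ∈ D.toPre.Lf cs w, ∃ b' ∈ D.Up 1,
      t * g = b * l * b' := by
    rintro t ht g ⟨b, hb, w, l, hl, b', hb', rfl⟩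
    exact ⟨t * b * t⁻¹, D.H_norm ht hb, w, t * l, D.toPre.H_mul cs hl ht, b', hb', by group⟩
  have hg : g ∈ Subgroup.closure ({g : Γ | ∃ i, g ∈ X i} ∪ Set.range n ∪ (H : Set Γ)) := by
    rw [hgen]; trivial
  induction hg using Subgroup.closure_induction_left with
  | one => exact ⟨1, one_mem _, 1, 1, D.toPre.one_mem cs H.one_mem, 1, one_mem _, by group⟩
  | mul_left x hx y _ ih =>
    rcases hx with (⟨i, hx⟩ | ⟨i, rfl⟩) | hx
    · obtain ⟨b, hb, w, l, hl, b', hb', rfl⟩ := ih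
      exact ⟨x * b, mul_mem (hU hx) hb, w, l, hl, b', hb', by group⟩
    · exact D.bruhat_n ih
    · exact hHm hx ih
  | inv_mul_cancel x hx y _ ih =>
    rcases hx with (⟨i, hx⟩ | ⟨i, rfl⟩) | hx
    · obtain ⟨b, hb, w, l, hl, b', hb', rfl⟩ := ih
      exact ⟨x⁻¹ * b, mul_mem (hU (inv_mem hx)) hb, w, l, hl, b', hb', by group⟩
    · have hsq : n i * n i ∈ H := by
        have := D.rel i i
        rwa [M.diagonal, pow_one] at this
      have h1 := hHm (inv_mem hsq) (D.bruhat_n (i := i) ih)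
      have e : (n i * n i)⁻¹ * (n i * y) = (n i)⁻¹ * y := by group
      rwa [e] at h1
    · exact hHm (inv_mem hx) ih

include hH hX hnB in
/-- **Levi type Curtis-Tits theorem.** The kernel is central. -/
theorem ker_le_center (hne : ∀ i, ∃ x ∈ X i, x ≠ 1)
    (hgen : Subgroup.closure ({g : Γ | ∃ i, g ∈ X i} ∪ {g : Γ | ∃ i, g ∈ cj (n i) (X i)}) = ⊤) :
    π.ker ≤ Subgroup.center Γ := by
  have hgen' : Subgroup.closure ({g : Γ | ∃ i, g ∈ X i} ∪ Set.range n ∪ (H : Set Γ)) = ⊤ := by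
    rw [eq_top_iff, ← hgen]
    refine (Subgroup.closure_le _).2 ?_
    rintro g (⟨i, hg⟩ | ⟨i, hg⟩)
    · exact Subgroup.subset_closure (Or.inl (Or.inl ⟨i, hg⟩))
    · have hni : n i ∈ Subgroup.closure ({g : Γ | ∃ i, g ∈ X i} ∪ Set.range n ∪ (H : Set Γ)) :=
        Subgroup.subset_closure (Or.inl (Or.inr ⟨i, rfl⟩))
      rw [mem_cj] at hg
      have h1 : (n i)⁻¹ * g * n i ∈
          Subgroup.closure ({g : Γ | ∃ i, g ∈ X i} ∪ Set.range n ∪ (H : Set Γ)) :=
        Subgroup.subset_closure (Or.inl (Or.inl ⟨i, hg⟩))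
      have h2 := mul_mem (mul_mem hni h1) (inv_mem hni)
      have e : n i * ((n i)⁻¹ * g * n i) * (n i)⁻¹ = g := by group
      rwa [e] at h2
  have hU : ∀ {x : I → ℤ}, IsRoot cs h x → 0 ≤ x → XR cs h X D.toPre x ≤ D.Up 1 := by
    intro x hx h0
    exact D.XR_le_Up hx h0 (by rw [inv_one, map_one, Module.End.one_apply]; exact h0)
  -- the kernel centralises `U`
  have key : ∀ z ∈ π.ker, ∀ y ∈ D.Up 1, z * y = y * z := by
    intro z hz
    obtain ⟨b, hb, w, l, hl, b', hb', rfl⟩ := D.bruhat hgen' z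
    have hz' : π (b * l * b') = 1 := hz
    have hπb := D.U_mem π hX hb
    have hπb' := D.U_mem π hX hb'
    have hπl : π l ∈ BK := by
      rw [map_mul, map_mul] at hz'
      have e : π l = (π b)⁻¹ * (π b * π l * π b') * (π b')⁻¹ := by group
      rw [e, hz', mul_one]
      exact mul_mem (inv_mem hπb) (inv_mem hπb')
    have hw1 : w = 1 := by
      by_contra hw1
      obtain ⟨i, hi⟩ := cs.exists_leftDescent_of_ne_one hw1
      have hi' : cs.length (cs.simple i * w) < cs.length w := hi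
      have h1 : rep cs h w⁻¹ (sr i) ≤ 0 := by
        refine nonpos_of_lt cs h w⁻¹ i ?_
        rw [← cs.length_inv (w⁻¹ * cs.simple i), mul_inv_rev, inv_inv, inv_simple, cs.length_inv]
        exact hi'
      obtain ⟨x, hx, hx1⟩ := hne i
      apply hx1
      refine D.eq_one_of_mem π hH hX hnB hx ?_
      -- `l⁻¹ (n x n⁻¹) l` is in a positive root group
      have h2 : n i * x * (n i)⁻¹ ∈ XR cs h X D.toPre (-sr i) := by
        rw [← rep_simple_sr (cs := cs) (h := h)]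
        exact conj_mem_XR D.toPre (D.toPre.simple_mem cs i) (by rw [D.XR_simple]; exact hx)
      have h3 := conj_mem_XR D.toPre (D.toPre.inv_mem cs hl) h2
      rw [map_neg, inv_inv] at h3
      have h4 := hX _ ((isRoot_sr cs h i).act w⁻¹).neg (neg_nonneg.2 h1) _ h3
      have e : π (n i * x * (n i)⁻¹) = π l * π (l⁻¹ * (n i * x * (n i)⁻¹) * l) * (π l)⁻¹ := by
        rw [← map_mul, ← map_inv, ← map_mul]
        congr 1
        group
      rw [e]
      exact mul_mem (mul_mem hπl h4) (inv_mem hπl)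
    subst hw1
    have hlH := D.toPre.mem_H cs hl
    intro y hy
    -- `z y z⁻¹ ∈ U`
    have h1 : (b * l * b') * y * (b * l * b')⁻¹ ∈ D.Up 1 := by
      have h2 := mul_mem (mul_mem hb (D.H_norm hlH (mul_mem (mul_mem hb' hy) (inv_mem hb'))))
        (inv_mem hb)
      have e : b * (l * (b' * y * b'⁻¹) * l⁻¹) * b⁻¹ = (b * l * b') * y * (b * l * b')⁻¹ := by group
      rwa [e] at h2
    have h2 := D.eq_one_of_ker π hH hX hnB _ 1 rfl _ (mul_mem h1 (inv_mem hy)) (by
      rw [map_mul, map_mul, map_mul, map_inv, hz', one_mul, inv_one, mul_one, ← map_mul,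
        mul_inv_cancel, map_one])
    rw [mul_inv_eq_one, mul_inv_eq_iff_eq_mul] at h2
    exact h2
  intro z hz
  have hXz : ∀ z ∈ π.ker, ∀ i, ∀ x ∈ X i, z * x = x * z := by
    intro z hz i x hx
    exact key z hz x (hU (isRoot_sr cs h i) (sr_nonneg i) (by rw [D.XR_simple]; exact hx))
  rw [Subgroup.mem_center_iff]
  intro g
  have hg : g ∈ Subgroup.closure ({g : Γ | ∃ i, g ∈ X i} ∪ {g : Γ | ∃ i, g ∈ cj (n i) (X i)}) := by
    rw [hgen]; trivial
  have hc : Subgroup.closure ({g : Γ | ∃ i, g ∈ X i} ∪ {g : Γ | ∃ i, g ∈ cj (n i) (X i)}) ≤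
      Subgroup.centralizer ({z} : Set Γ) := by
    refine (Subgroup.closure_le _).2 ?_
    rintro g (⟨i, hg⟩ | ⟨i, hg⟩)
    · rw [SetLike.mem_coe, Subgroup.mem_centralizer_singleton_iff]
      exact (hXz z hz i g hg).symm
    · rw [SetLike.mem_coe, Subgroup.mem_centralizer_singleton_iff]
      have hz' : (n i)⁻¹ * z * n i ∈ π.ker := by
        have := π.normal_ker.conj_mem z hz (n i)⁻¹
        rwa [inv_inv] at this
      rw [mem_cj] at hg
      have h1 := hXz _ hz' i _ hg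
      have e1 : (n i)⁻¹ * z * n i * ((n i)⁻¹ * g * n i) = (n i)⁻¹ * (z * g) * n i := by group
      have e2 : (n i)⁻¹ * g * n i * ((n i)⁻¹ * z * n i) = (n i)⁻¹ * (g * z) * n i := by group
      rw [e1, e2] at h1
      exact (mul_left_cancel (mul_right_cancel h1)).symm
  have := hc hg
  rwa [Subgroup.mem_centralizer_singleton_iff] at this

end Kernel

end RD

end Cfsg.Agent.CurtisTits
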